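import Mathlib.CategoryTheory.Localization.CalculusOfFractions
import Mathlib.Data.Fintype.EquivFin

/-!
Common denominators for finitely many morphisms in a localization with a left calculus of fractions.
-/

universe v u v' u'

open CategoryTheory

namespace Groth.Agent.CatLimLib

variable {C : Type u} [Category.{v} C] {D : Type u'} [Category.{v'} D]
  (W : MorphismProperty C) (L : C ⥤ D) [L.IsLocalization W] [W.HasLeftCalculusOfFractions]

lemma exists_common_denominator {ι : Type*} [Finite ι] (X : ι → C) (Y : C)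
    (g : ∀ i, L.obj (X i) ⟶ L.obj Y) :
    ∃ (Y' : C) (s : Y ⟶ Y') (_ : W s) (f : ∀ i, X i ⟶ Y'), ∀ i, g i ≫ L.map s = L.map (f i) := by
  classical
  have key : ∀ A : Finset ι, ∃ (Y' : C) (s : Y ⟶ Y'), W s ∧
      ∀ i ∈ A, ∃ f : X i ⟶ Y', g i ≫ L.map s = L.map f := by
    intro A
    induction A using Finset.induction_on with
    | empty => exact ⟨Y, 𝟙 Y, W.id_mem Y, by simp⟩
    | insert a A ha ih =>
      obtain ⟨Y', s, hs, hA⟩ := ih
      obtain ⟨φ, hφ⟩ := Localization.exists_leftFraction L W (g a ≫ L.map s)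
      refine ⟨φ.Y', s ≫ φ.s, W.comp_mem _ _ hs φ.hs, fun i hi ↦ ?_⟩
      rcases Finset.mem_insert.1 hi with rfl | hi
      · exact ⟨φ.f, by rw [L.map_comp, reassoc_of% hφ, φ.map_comp_map_s]⟩
      · obtain ⟨f, hf⟩ := hA i hi
        exact ⟨f ≫ φ.s, by rw [L.map_comp, L.map_comp, reassoc_of% hf]⟩
  haveI := Fintype.ofFinite ι
  obtain ⟨Y', s, hs, h⟩ := key Finset.univ
  choose f hf using h
  exact ⟨Y', s, hs, fun i ↦ f i (Finset.mem_univ i), fun i ↦ hf i _⟩

lemma exists_common_postcomp {ι : Type*} [Finite ι] (Z : ι → C) (Y : C)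
    (a b : ∀ i, Z i ⟶ Y) (h : ∀ i, L.map (a i) = L.map (b i)) :
    ∃ (Y' : C) (t : Y ⟶ Y') (_ : W t), ∀ i, a i ≫ t = b i ≫ t := by
  classical
  have key : ∀ A : Finset ι, ∃ (Y' : C) (t : Y ⟶ Y'), W t ∧ ∀ i ∈ A, a i ≫ t = b i ≫ t := by
    intro A
    induction A using Finset.induction_on with
    | empty => exact ⟨Y, 𝟙 Y, W.id_mem Y, by simp⟩
    | insert k A hk ih =>
      obtain ⟨Y', t, ht, hA⟩ := ih
      have h' : L.map (a k ≫ t) = L.map (b k ≫ t) := by rw [L.map_comp, L.map_comp, h k]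
      obtain ⟨Y'', t', ht', e⟩ := (MorphismProperty.map_eq_iff_postcomp L W _ _).1 h'
      refine ⟨Y'', t ≫ t', W.comp_mem _ _ ht ht', fun i hi ↦ ?_⟩
      rcases Finset.mem_insert.1 hi with rfl | hi
      · simpa using e
      · rw [reassoc_of% (hA i hi)]
  haveI := Fintype.ofFinite ι
  obtain ⟨Y', t, ht, h⟩ := key Finset.univ
  exact ⟨Y', t, ht, fun i ↦ h i (Finset.mem_univ i)⟩

end Groth.Agent.CatLimLib
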