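import Mathlib.CategoryTheory.Limits.Final
import Mathlib.CategoryTheory.FinCategory.Basic
import Mathlib.CategoryTheory.MorphismProperty.Composition
import Mathlib.Data.Fintype.Prod

/-!
A finite bipartite category mapping finally and initially to a category with finitely many objects
and finitely many generating arrows.
-/

universe v u

open CategoryTheory

namespace Groth.Agent.CatLimLib

/-- Two copies of the index type `ι`, with an arrow `(i, false) ⟶ (i, true)` for each `i` and
an arrow `(s k, false) ⟶ (t k, true)` for each `k`. -/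
@[ext]
structure Kron {ι K : Type} (s t : K → ι) where
  i : ι
  b : Bool

namespace Kron

variable {ι K : Type} {s t : K → ι}

/-- The morphisms. -/
inductive Hom : Kron s t → Kron s t → Type
  | id (p : Kron s t) : Hom p p
  | vert (i : ι) : Hom ⟨i, false⟩ ⟨i, true⟩
  | edge (k : K) : Hom ⟨s k, false⟩ ⟨t k, true⟩

lemma Hom.eq_of_true {p r : Kron s t} (f : Hom p r) (h : p.b = true) :
    r = p ∧ HEq f (Hom.id p) := by
  cases f with
  | id _ => exact ⟨rfl, HEq.rfl⟩
  | vert i => simp at h
  | edge k => simp at h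

/-- Composition. -/
def Hom.comp {p q r : Kron s t} (f : Hom p q) (g : Hom q r) : Hom p r :=
  match f, g with
  | .id _, g => g
  | .vert i, g => (g.eq_of_true rfl).1 ▸ Hom.vert i
  | .edge k, g => (g.eq_of_true rfl).1 ▸ Hom.edge k

lemma Hom.comp_id' {p q : Kron s t} (f : Hom p q) : f.comp (Hom.id q) = f := by
  cases f <;> rfl

lemma Hom.id_comp' {p q : Kron s t} (f : Hom p q) : (Hom.id p).comp f = f := rfl

lemma Hom.eq_id_of_ne {p q r : Kron s t} (f : Hom p q) (g : Hom q r) (hf : p.b ≠ q.b) :
    r = q ∧ HEq g (Hom.id q) := by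
  apply g.eq_of_true
  cases f <;> simp at hf ⊢

lemma Hom.assoc' {p q r u : Kron s t} (f : Hom p q) (g : Hom q r) (h : Hom r u) :
    (f.comp g).comp h = f.comp (g.comp h) := by
  cases f with
  | id _ => rfl
  | vert i =>
    obtain ⟨rfl, hg⟩ := g.eq_of_true rfl
    cases eq_of_heq hg
    rfl
  | edge k =>
    obtain ⟨rfl, hg⟩ := g.eq_of_true rfl
    cases eq_of_heq hg
    rfl

instance : SmallCategory (Kron s t) where
  Hom := Hom
  id := Hom.id
  comp := Hom.comp
  id_comp f := Hom.id_comp' f
  comp_id f := Hom.comp_id' f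
  assoc f g h := Hom.assoc' f g h

/-- The code of a morphism. -/
def Hom.code {p q : Kron s t} : Hom p q → Option (Option K)
  | .id _ => none
  | .vert _ => some none
  | .edge k => some (some k)

lemma Hom.code_eq {p q p' q' : Kron s t} (f : Hom p q) (g : Hom p' q') (hp : p = p') (hq : q = q')
    (h : f.code = g.code) : HEq f g := by
  cases f <;> cases g <;> simp [Hom.code] at h <;> grind

noncomputable instance [Fintype ι] [Finite K] : FinCategory (Kron s t) where
  fintypeObj := Fintype.ofEquiv (ι × Bool)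
    { toFun := fun x ↦ ⟨x.1, x.2⟩, invFun := fun x ↦ (x.i, x.b)
      left_inv := fun _ ↦ rfl, right_inv := fun _ ↦ rfl }
  fintypeHom p q :=
    haveI : Finite (p ⟶ q) := Finite.of_injective (Hom.code : Hom p q → _)
      fun f g h ↦ eq_of_heq (Hom.code_eq f g rfl rfl h)
    Fintype.ofFinite _

variable {I : Type u} [Category.{v} I] (o : ι → I) (g : ∀ k, o (s k) ⟶ o (t k))

/-- The image of a morphism. -/
def liftMap : ∀ {p q : Kron s t}, Hom p q → (o p.i ⟶ o q.i)
  | _, _, .id _ => 𝟙 _
  | _, _, .vert _ => 𝟙 _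
  | _, _, .edge k => g k

/-- The functor to `I`. -/
def lift : Kron s t ⥤ I where
  obj p := o p.i
  map f := liftMap o g f
  map_id _ := rfl
  map_comp {p q r} f h := by
    change liftMap o g (Hom.comp f h) = liftMap o g f ≫ liftMap o g h
    cases f with
    | id _ => exact (Category.id_comp _).symm
    | vert i =>
      obtain ⟨rfl, hg⟩ := Hom.eq_of_true h rfl
      cases eq_of_heq hg
      exact (Category.comp_id _).symm
    | edge k =>
      obtain ⟨rfl, hg⟩ := Hom.eq_of_true h rfl
      cases eq_of_heq hg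
      exact (Category.comp_id _).symm

/-- `g` generates `I`. -/
def Generates : Prop :=
  ∀ P : MorphismProperty I, P.IsMultiplicative → (∀ k, P (g k)) → P = ⊤

variable {o g}

lemma lift_final (ho : Function.Bijective o) (hg : Generates o g) : (lift o g).Final := by
  refine ⟨fun x ↦ ?_⟩
  let N : ∀ (i : ι) (b : Bool), (x ⟶ o i) → StructuredArrow x (lift o g) := fun i b h ↦
    StructuredArrow.mk (Y := (⟨i, b⟩ : Kron s t)) h
  have hv : ∀ i b (h : x ⟶ o i), Zigzag (N i b h) (N i true h) := by
    intro i b h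
    cases b
    · exact Zigzag.of_hom (StructuredArrow.homMk (Hom.vert i : (⟨i, false⟩ : Kron s t) ⟶ ⟨i, true⟩)
        (Category.comp_id h))
    · exact Relation.ReflTransGen.refl
  let P : MorphismProperty I := fun u w a ↦ ∀ (i j : ι) (hu : o i = u) (hw : o j = w) (h : x ⟶ o i),
    Zigzag (N i true h) (N j true (h ≫ eqToHom hu ≫ a ≫ eqToHom hw.symm))
  have hP : P = ⊤ := by
    haveI : P.ContainsIdentities := ⟨fun u i j hu hw h ↦ by
      obtain rfl := ho.1 (hu.trans hw.symm)
      subst hu
      simp only [eqToHom_refl, Category.comp_id]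
      exact Relation.ReflTransGen.refl⟩
    haveI : P.IsStableUnderComposition := ⟨fun {u w z} a b ha hb i j hu hz h ↦ by
      obtain ⟨m, hm⟩ := ho.2 w
      refine (ha i m hu hm h).trans ?_
      convert hb m j hm hz (h ≫ eqToHom hu ≫ a ≫ eqToHom hm.symm) using 2
      simp⟩
    refine hg P {} fun k i j hu hw h ↦ ?_
    obtain rfl := ho.1 hu
    obtain rfl := ho.1 hw
    simp only [eqToHom_refl, Category.id_comp, Category.comp_id]
    exact (hv _ _ h).symm.trans (Zigzag.of_hom (StructuredArrow.homMk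
      (Hom.edge k : (⟨s k, false⟩ : Kron s t) ⟶ ⟨t k, true⟩) rfl))
  obtain ⟨i₀, hi₀⟩ := ho.2 x
  haveI : Nonempty (StructuredArrow x (lift o g)) := ⟨N i₀ true (eqToHom hi₀.symm)⟩
  have key : ∀ X, Zigzag X (N i₀ true (eqToHom hi₀.symm)) := by
    intro X
    obtain ⟨⟨⟨⟩⟩, ⟨i, b⟩, h⟩ := X
    change x ⟶ o i at h
    refine (hv i b h).trans ?_
    have := (hP ▸ trivial : P h) i₀ i hi₀ rfl (eqToHom hi₀.symm)
    have e : eqToHom hi₀.symm ≫ eqToHom hi₀ ≫ h ≫ eqToHom rfl = h := by
      rw [eqToHom_trans_assoc, eqToHom_refl, Category.id_comp, eqToHom_refl]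
      exact Category.comp_id _
    rw [e] at this
    exact this.symm
  exact zigzag_isConnected fun X Y ↦ (key X).trans (key Y).symm

lemma lift_initial (ho : Function.Bijective o) (hg : Generates o g) : (lift o g).Initial := by
  refine ⟨fun x ↦ ?_⟩
  let N : ∀ (i : ι) (b : Bool), (o i ⟶ x) → CostructuredArrow (lift o g) x := fun i b h ↦
    CostructuredArrow.mk (Y := (⟨i, b⟩ : Kron s t)) h
  have hv : ∀ i b (h : o i ⟶ x), Zigzag (N i b h) (N i false h) := by
    intro i b h
    cases b
    · exact Relation.ReflTransGen.refl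
    · exact Zigzag.of_inv (CostructuredArrow.homMk
        (Hom.vert i : (⟨i, false⟩ : Kron s t) ⟶ ⟨i, true⟩) (Category.id_comp h))
  let P : MorphismProperty I := fun u w a ↦ ∀ (i j : ι) (hu : o i = u) (hw : o j = w) (h : o j ⟶ x),
    Zigzag (N j false h) (N i false (eqToHom hu ≫ a ≫ eqToHom hw.symm ≫ h))
  have hP : P = ⊤ := by
    haveI : P.ContainsIdentities := ⟨fun u i j hu hw h ↦ by
      obtain rfl := ho.1 (hu.trans hw.symm)
      subst hu
      simp only [eqToHom_refl, Category.id_comp]
      exact Relation.ReflTransGen.refl⟩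
    haveI : P.IsStableUnderComposition := ⟨fun {u w z} a b ha hb i j hu hz h ↦ by
      obtain ⟨m, hm⟩ := ho.2 w
      refine (hb m j hm hz h).trans ?_
      convert ha i m hu hm (eqToHom hm ≫ b ≫ eqToHom hz.symm ≫ h) using 2
      simp⟩
    refine hg P {} fun k i j hu hw h ↦ ?_
    obtain rfl := ho.1 hu
    obtain rfl := ho.1 hw
    simp only [eqToHom_refl, Category.id_comp]
    exact (hv _ true h).symm.trans (Zigzag.of_inv (CostructuredArrow.homMk
      (Hom.edge k : (⟨s k, false⟩ : Kron s t) ⟶ ⟨t k, true⟩) rfl))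
  obtain ⟨i₀, hi₀⟩ := ho.2 x
  haveI : Nonempty (CostructuredArrow (lift o g) x) := ⟨N i₀ false (eqToHom hi₀)⟩
  have key : ∀ X, Zigzag X (N i₀ false (eqToHom hi₀)) := by
    intro X
    obtain ⟨⟨i, b⟩, ⟨⟨⟩⟩, h⟩ := X
    change o i ⟶ x at h
    refine (hv i b h).trans ?_
    have := (hP ▸ trivial : P h) i i₀ rfl hi₀ (eqToHom hi₀)
    have e : eqToHom rfl ≫ h ≫ eqToHom hi₀.symm ≫ eqToHom hi₀ = h := by
      rw [eqToHom_trans, eqToHom_refl, eqToHom_refl, Category.comp_id]
      exact Category.id_comp _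
    rw [e] at this
    exact this.symm
  exact zigzag_isConnected fun X Y ↦ (key X).trans (key Y).symm

end Kron

end Groth.Agent.CatLimLib
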