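import Mathlib.CategoryTheory.Limits.Shapes.Pullback.HasPullback
import Mathlib.CategoryTheory.Limits.Shapes.BinaryProducts
import Mathlib.CategoryTheory.Limits.Shapes.Equalizers
import Mathlib.CategoryTheory.IsConnected
import Mathlib.CategoryTheory.FinCategory.Basic
import Mathlib.Data.Set.Card
import Mathlib.Data.Fintype.Sigma

/-!
Finite limits built by growing a "jointly monic, cone-universal" object one index at a time.
-/

universe v u

open CategoryTheory CategoryTheory.Limits

namespace Groth.Agent.CatLimLib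

variable {C : Type u} [Category.{v} C] {J : Type} [SmallCategory J] (F : J ⥤ C)

/-- An object with projections on a set of indices through which every cone factors,
and such that the projections are jointly monic. -/
structure Partial (S : Set J) where
  pt : C
  p : ∀ j, j ∈ S → (pt ⟶ F.obj j)
  ext : ∀ ⦃W : C⦄ (m m' : W ⟶ pt), (∀ j hj, m ≫ p j hj = m' ≫ p j hj) → m = m'
  fac : ∀ c : Cone F, ∃ m : c.pt ⟶ pt, ∀ j hj, m ≫ p j hj = c.π.app j

variable {F}

lemma hasLimit_of_partial [FinCategory J] [HasEqualizers C] (P : Partial F Set.univ) :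
    HasLimit F := by
  classical
  suffices h : ∀ A : Finset (Σ i j : J, i ⟶ j), ∃ Q : Partial F Set.univ,
      ∀ a ∈ A, Q.p a.1 trivial ≫ F.map a.2.2 = Q.p a.2.1 trivial by
    obtain ⟨Q, hQ⟩ := h Finset.univ
    choose m hm using Q.fac
    refine HasLimit.mk ⟨⟨Q.pt, ⟨fun j ↦ Q.p j trivial, fun i j a ↦ ?_⟩⟩, ⟨m, ?_, ?_⟩⟩
    · simpa using (hQ ⟨i, j, a⟩ (Finset.mem_univ _)).symm
    · intro c j
      exact hm c j trivial
    · intro c m' hm'
      exact Q.ext _ _ fun j _ ↦ (hm' j).trans (hm c j trivial).symm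
  intro A
  induction A using Finset.induction_on with
  | empty => exact ⟨P, by simp⟩
  | insert a A ha ih =>
    obtain ⟨Q, hQ⟩ := ih
    obtain ⟨i, k, f⟩ := a
    let e := equalizer.ι (Q.p i trivial ≫ F.map f) (Q.p k trivial)
    refine ⟨⟨_, fun j hj ↦ e ≫ Q.p j hj, ?_, ?_⟩, ?_⟩
    · intro W m m' h
      rw [← cancel_mono e]
      exact Q.ext _ _ fun j hj ↦ by simpa using h j hj
    · intro c
      obtain ⟨m, hm⟩ := Q.fac c
      refine ⟨equalizer.lift m (by rw [reassoc_of% (hm i trivial), hm, c.w]), fun j hj ↦ ?_⟩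
      simp [e, hm j hj]
    · intro b hb
      rcases Finset.mem_insert.1 hb with rfl | hb
      · simpa [e] using equalizer.condition (Q.p i trivial ≫ F.map f) (Q.p k trivial)
      · simp [hQ b hb]

/-- If a partial object can always be grown, there is one on all indices. -/
lemma exists_partial_univ [FinCategory J] [Nonempty J]
    (grow : ∀ S : Set J, S.Nonempty → S ≠ Set.univ → Partial F S →
      ∃ k, k ∉ S ∧ Nonempty (Partial F (insert k S))) :
    Nonempty (Partial F Set.univ) := by
  obtain ⟨j₀⟩ := ‹Nonempty J›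
  suffices h : ∀ n, ∀ S : Set J, Sᶜ.ncard = n → S.Nonempty → Nonempty (Partial F S) →
      Nonempty (Partial F Set.univ) by
    refine h _ {j₀} rfl ⟨j₀, rfl⟩
      ⟨⟨F.obj j₀, fun j hj ↦ eqToHom (by rw [Set.mem_singleton_iff.1 hj]), ?_, ?_⟩⟩
    · intro W m m' h
      simpa using h j₀ rfl
    · intro c
      refine ⟨c.π.app j₀, fun j hj ↦ ?_⟩
      obtain rfl := Set.mem_singleton_iff.1 hj
      simp
  intro n
  induction n using Nat.strong_induction_on with
  | _ n ih =>
    intro S hn hS P
    by_cases hU : S = Set.univ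
    · subst hU; exact P
    · obtain ⟨k, hk, hP⟩ := grow S hS hU P.some
      refine ih _ ?_ _ rfl (Set.insert_nonempty _ _) hP
      rw [← hn]
      refine Set.ncard_lt_ncard ?_ (Set.toFinite _)
      exact compl_lt_compl_iff_lt.2 (Set.ssubset_insert hk)

lemma grow_prod [HasBinaryProducts C] {S : Set J} (P : Partial F S) {k : J} (hk : k ∉ S) :
    Nonempty (Partial F (insert k S)) := by
  classical
  refine ⟨⟨P.pt ⨯ F.obj k, fun j hj ↦ if h : j ∈ S then prod.fst ≫ P.p j h else
    prod.snd ≫ eqToHom (by rw [hj.resolve_right h]), ?_, ?_⟩⟩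
  · intro W m m' h
    apply Limits.prod.hom_ext
    · exact P.ext _ _ fun j hj ↦ by simpa [hj] using h j (Set.mem_insert_of_mem _ hj)
    · simpa [hk] using h k (Set.mem_insert _ _)
  · intro c
    obtain ⟨m, hm⟩ := P.fac c
    refine ⟨prod.lift m (c.π.app k), fun j hj ↦ ?_⟩
    by_cases h : j ∈ S
    · rw [dif_pos h, prod.lift_fst_assoc, hm j h]
    · obtain rfl := hj.resolve_right h
      rw [dif_neg h, eqToHom_refl, Category.comp_id, prod.lift_snd]

lemma grow_comp {S : Set J} (P : Partial F S) {i k : J} (hi : i ∈ S) (a : i ⟶ k) :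
    Nonempty (Partial F (insert k S)) := by
  classical
  refine ⟨⟨P.pt, fun j hj ↦ if h : j ∈ S then P.p j h else
    P.p i hi ≫ F.map a ≫ eqToHom (by rw [hj.resolve_right h]), ?_, ?_⟩⟩
  · intro W m m' h
    exact P.ext _ _ fun j hj ↦ by simpa [hj] using h j (Set.mem_insert_of_mem _ hj)
  · intro c
    obtain ⟨m, hm⟩ := P.fac c
    refine ⟨m, fun j hj ↦ ?_⟩
    by_cases h : j ∈ S
    · simp [h, hm j h]
    · obtain rfl := hj.resolve_right h
      simp [h, reassoc_of% (hm i hi), c.w]

lemma grow_pullback [HasPullbacks C] {S : Set J} (P : Partial F S) {i k : J} (hi : i ∈ S)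
    (hk : k ∉ S) (a : k ⟶ i) :
    Nonempty (Partial F (insert k S)) := by
  classical
  refine ⟨⟨pullback (P.p i hi) (F.map a), fun j hj ↦ if h : j ∈ S then
    pullback.fst _ _ ≫ P.p j h else
      pullback.snd _ _ ≫ eqToHom (by rw [hj.resolve_right h]), ?_, ?_⟩⟩
  · intro W m m' h
    apply pullback.hom_ext
    · exact P.ext _ _ fun j hj ↦ by simpa [hj] using h j (Set.mem_insert_of_mem _ hj)
    · simpa [hk] using h k (Set.mem_insert _ _)
  · intro c
    obtain ⟨m, hm⟩ := P.fac c
    refine ⟨pullback.lift m (c.π.app k) (by rw [hm, c.w]), fun j hj ↦ ?_⟩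
    by_cases h : j ∈ S
    · rw [dif_pos h]
      exact (pullback.lift_fst_assoc ..).trans (hm j h)
    · obtain rfl := hj.resolve_right h
      rw [dif_neg h, eqToHom_refl, Category.comp_id]
      exact pullback.lift_snd ..

/-- In a connected category, a proper non-empty set of objects has an arrow at its boundary. -/
lemma exists_boundary_arrow [IsConnected J] {S : Set J} (hS : S.Nonempty) (hU : S ≠ Set.univ) :
    ∃ i ∈ S, ∃ k ∉ S, Nonempty (i ⟶ k) ∨ Nonempty (k ⟶ i) := by
  by_contra h
  push Not at h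
  obtain ⟨j₀, hj₀⟩ := hS
  refine hU (Set.eq_univ_of_forall fun j ↦
    induct_on_objects S hj₀ (fun {j₁ j₂} f ↦ ⟨fun h₁ ↦ ?_, fun h₂ ↦ ?_⟩) j)
  · by_contra h₂
    exact (h _ h₁ _ h₂).1.false f
  · by_contra h₁
    exact (h _ h₂ _ h₁).2.false f

end Groth.Agent.CatLimLib
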