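import Mathlib.CategoryTheory.Limits.Types.Colimits

/-!
Equality in a colimit of types indexed by a category in which every span can be completed.
-/

universe v u

open CategoryTheory CategoryTheory.Limits

namespace Groth.Agent.CatLimLib

variable {I : Type v} [SmallCategory I]

lemma exists_cospan_of_eq
    (hI : ∀ ⦃x y z : I⦄ (f : x ⟶ y) (g : x ⟶ z), ∃ (w : I) (f' : y ⟶ w) (g' : z ⟶ w),
      f ≫ f' = g ≫ g')
    (F : I ⥤ Type v) {i j : I} {x : F.obj i} {y : F.obj j}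
    (h : colimit.ι F i x = colimit.ι F j y) :
    ∃ (w : I) (f : i ⟶ w) (g : j ⟶ w), F.map f x = F.map g y := by
  suffices key : ∀ a b : Σ i, F.obj i, Relation.EqvGen F.ColimitTypeRel a b →
      ∃ (w : I) (f : a.1 ⟶ w) (g : b.1 ⟶ w), F.map f a.2 = F.map g b.2 from
    key _ _ (Types.colimit_eq h)
  intro a b hab
  induction hab with
  | rel a b h =>
    obtain ⟨f, hf⟩ := h
    exact ⟨b.1, f, 𝟙 _, by simp [hf]⟩
  | refl a => exact ⟨a.1, 𝟙 _, 𝟙 _, rfl⟩
  | symm a b _ ih =>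
    obtain ⟨w, f, g, h⟩ := ih
    exact ⟨w, g, f, h.symm⟩
  | trans a b c _ _ ih₁ ih₂ =>
    obtain ⟨w, f, g, h⟩ := ih₁
    obtain ⟨w', f', g', h'⟩ := ih₂
    obtain ⟨v, p, q, hpq⟩ := hI g f'
    refine ⟨v, f ≫ p, g' ≫ q, ?_⟩
    simp only [FunctorToTypes.map_comp_apply, h, ← h']
    rw [← FunctorToTypes.map_comp_apply, ← FunctorToTypes.map_comp_apply, hpq]

end Groth.Agent.CatLimLib
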